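import Groth.Agent.Lib.OmegaPn27.BottField
import Groth.Agent.Lib.SerrePn27.ToHH
import Groth.Agent.Lib.SerrePn27.HomTwist

/-!
# Simplicity of the sheaf of differentials and null-correlation bundles
-/

set_option autoImplicit false
set_option maxHeartbeats 800000
set_option linter.style.haveILetI false
set_option backward.isDefEq.respectTransparency false

universe u

open CategoryTheory CategoryTheory.Limits AlgebraicGeometry Opposite TopologicalSpace
open CategoryTheory.Abelian (Ext)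
open GrothLib.ExtPowX (wedge)
open GrothLib.OmegaPn27 (OmegaP OD Wt)

noncomputable section

namespace GrothLib.NullCorr27

theorem exists_eq_smul_of_injective {k : Type u} [Field k] {V W : Type*} [AddCommGroup V] [Module k V]
    [AddCommGroup W] [Module k W] (g : V →ₗ[k] W) (hg : Function.Injective g) (e : W ≃ₗ[k] k) (x : V) {y : V}
    (hy : y ≠ 0) : ∃ c : k, x = c • y := by
  have hy' : e (g y) ≠ 0 := fun h => hy (hg (e.injective (by rw [h, map_zero, map_zero])))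
  refine ⟨e (g x) / e (g y), hg (e.injective ?_)⟩
  rw [map_smul, map_smul, smul_eq_mul, div_mul_cancel₀ _ hy']

theorem exists_injective_of_surjective {k : Type u} [Field k] {V W : Type*} [AddCommGroup V] [Module k V]
    [AddCommGroup W] [Module k W] (e : V ≃ₗ[k] k) (g : V →ₗ[k] W) (hg : Function.Surjective g) :
    ∃ f : W →ₗ[k] k, Function.Injective f := by
  by_cases h : Function.Injective g
  · exact ⟨((LinearEquiv.ofBijective g ⟨h, hg⟩).symm ≪≫ₗ e).toLinearMap,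
      ((LinearEquiv.ofBijective g ⟨h, hg⟩).symm ≪≫ₗ e).injective⟩
  · have hy : ∃ y, g y = 0 ∧ y ≠ 0 := by
      by_contra hne
      exact h ((injective_iff_map_eq_zero g).2 fun y hy => by_contra fun hy0 => hne ⟨y, hy, hy0⟩)
    obtain ⟨y, hy, hy0⟩ := hy
    refine ⟨0, fun a b _ => ?_⟩
    have key : ∀ z : W, z = 0 := fun z => by
      obtain ⟨v, rfl⟩ := hg z
      obtain ⟨c, rfl⟩ := exists_eq_smul_of_injective (LinearMap.id : V →ₗ[k] V) Function.injective_id e v hy0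
      rw [map_smul, hy, smul_zero]
    rw [key a, key b]

variable {k : Type u} [Field k] {X : Scheme.{u}} [X.Over (Spec (CommRingCat.of k))] [HasExt.{u} X.Modules]

/-- Maps out of the kernel of an extension of `O` into a module without homomorphisms from the middle term. -/
theorem exists_injective_hom {S : ShortComplex X.Modules} (hS : S.ShortExact) (e₃ : S.X₃ ≅ Coh.structureModule X)
    (M : X.Modules) (h₂ : ∀ f : S.X₂ ⟶ M, f = 0) :
    ∃ g : (S.X₁ ⟶ M) →ₗ[k] Coh.HH X M 1, Function.Injective g := by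
  let c : Ext (Coh.structureModule X) S.X₁ 1 := (Ext.mk₀ e₃.inv).comp hS.extClass (zero_add 1)
  let D : (S.X₁ ⟶ M) →ₗ[k] Ext (Coh.structureModule X) M 1 :=
    { toFun := fun f => c.comp (Ext.mk₀ f) (add_zero 1)
      map_add' := fun f g => by rw [Ext.mk₀_add, Ext.comp_add]
      map_smul' := fun a f => by rw [Ext.mk₀_smul, Ext.comp_smul, RingHom.id_apply] }
  refine ⟨(SerrePn27.toHH (k := k) M 1).comp D, (SerrePn27.bijective_toHH (k := k) 1 M).1.comp
    ((injective_iff_map_eq_zero _).2 fun f hf => ?_)⟩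
  have h0 : hS.extClass.comp (Ext.mk₀ f) (add_zero 1) = 0 := by
    have h' : (Ext.mk₀ e₃.hom).comp (c.comp (Ext.mk₀ f) (add_zero 1)) (zero_add 1) = 0 := by
      rw [show c.comp (Ext.mk₀ f) (add_zero 1) = 0 from hf, Ext.comp_zero]
    simpa [c, Ext.comp_assoc_of_third_deg_zero, Iso.hom_inv_id] using h'
  obtain ⟨x, hx⟩ := Ext.contravariant_sequence_exact₁ hS M (Ext.mk₀ f) (add_zero 1) h0
  obtain ⟨x', rfl⟩ := (Ext.mk₀_bijective _ _).2 x
  rw [h₂ x', Ext.mk₀_zero, Ext.comp_zero] at hx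
  exact (Ext.mk₀_bijective _ _).1 (hx.symm.trans (Ext.mk₀_zero _ _).symm)

section Proj

variable (n : ℕ) (k : Type u) [Field k] [QuasiSeparated (CohB1.ProjSpace.toSpec n k)]

theorem nonempty_wedge_one : Nonempty (wedge (OmegaP n k) 1 ≅ OmegaP n k) :=
  ExtPowX.nonempty_iso (ExtPowX.isExtPow_wedge (OmegaPn27.isFinLocFree_omegaP n k) 1) (ModelK.isExtPow_one _)
    (Iso.refl _)

theorem nonempty_Wt_one (d : ℤ) : Nonempty (Wt n k 1 d ≅ CohB1.tensorMod (OmegaP n k) (OD n k d)) :=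
  ⟨Ample.LineData.tensorModMapIso (nonempty_wedge_one n k).some (Iso.refl _)⟩

/-- The Euler sequence. -/
theorem exists_euler_sum : ∃ T : ShortComplex (CohB1.ProjSpace n k).Modules, T.ShortExact ∧
    Nonempty (T.X₁ ≅ OmegaP n k) ∧ Nonempty (T.X₂ ≅ ∐ fun _ : Fin (n + 1) => OD n k (-1)) ∧
    Nonempty (T.X₃ ≅ Coh.structureModule (CohB1.ProjSpace n k)) := by
  obtain ⟨T, hT, ⟨a₁⟩, ⟨a₂⟩, ⟨a₃⟩⟩ := OmegaPn27.exists_seq n k 0 0
  obtain ⟨b₁⟩ := OmegaPn27.nonempty_Wt_zero_right n k 1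
  obtain ⟨c₁⟩ := nonempty_wedge_one n k
  obtain ⟨b₃⟩ := OmegaPn27.nonempty_Wt_zero_left n k 0
  obtain ⟨c₃⟩ := CMReg.nonempty_twist_zero (n := n) (k := k)
  refine ⟨T, hT, ⟨a₁ ≪≫ b₁.symm ≪≫ c₁⟩, ?_, ⟨a₃ ≪≫ b₃ ≪≫ c₃⟩⟩
  rw [show (n + 1).choose (0 + 1) = n + 1 by simp, show (0 : ℤ) - ((0 + 1 : ℕ) : ℤ) = -1 by simp] at a₂
  exact ⟨a₂⟩

/-- Tensor by a twist and its inverse. -/
theorem nonempty_untwist (M : (CohB1.ProjSpace n k).Modules) {a b : ℤ} (h : a + b = 0) :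
    Nonempty (CohB1.tensorMod (CohB1.tensorMod M (OD n k a)) (OD n k b) ≅ M) := by
  obtain ⟨u⟩ := OmegaPn27.nonempty_twist_add n k a b
  rw [h] at u
  obtain ⟨c⟩ := CMReg.nonempty_twist_zero (n := n) (k := k)
  exact ⟨OX.tensorAssoc M (OD n k a) (OD n k b) ≪≫ Ample.LineData.tensorModMapIso (Iso.refl M) (u ≪≫ c) ≪≫
    GrTilde.tensorModComm (X := CohB1.ProjSpace n k) _ _ ≪≫ OX.tensorUnitLeftIso M⟩

theorem nonempty_hom_neg_one (M : (CohB1.ProjSpace n k).Modules) :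
    Nonempty ((OD n k (-1) ⟶ M) ≃ₗ[k] Coh.HH (CohB1.ProjSpace n k) (CohB1.tensorMod M (OD n k 1)) 0) := by
  obtain ⟨u⟩ := OmegaPn27.nonempty_twist_add n k (-1) 1
  obtain ⟨u'⟩ := OmegaPn27.nonempty_twist_add n k 1 (-1)
  rw [neg_add_cancel] at u
  rw [add_neg_cancel] at u'
  obtain ⟨c⟩ := CMReg.nonempty_twist_zero (n := n) (k := k)
  exact SerrePn27.nonempty_hom_equiv_of_tensor (k := k) (X := CohB1.ProjSpace n k) (L := OD n k (-1))
    (M := OD n k 1) (A := OD n k (-1)) (B := M) (E := CohB1.tensorMod M (OD n k 1)) (u ≪≫ c) (u' ≪≫ c)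
    (OX.tensorUnitLeftIso (X := CohB1.ProjSpace n k) (OD n k (-1))) (nonempty_untwist n k M (add_neg_cancel 1)).some

theorem exists_injective_hom_omega (M : (CohB1.ProjSpace n k).Modules)
    (h : Subsingleton (Coh.HH (CohB1.ProjSpace n k) (CohB1.tensorMod M (OD n k 1)) 0)) :
    ∃ g : (OmegaP n k ⟶ M) →ₗ[k] Coh.HH (CohB1.ProjSpace n k) M 1, Function.Injective g := by
  haveI : HasExt.{u} (CohB1.ProjSpace n k).Modules := CategoryTheory.hasExt_of_enoughInjectives _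
  obtain ⟨T, hT, ⟨a₁⟩, ⟨a₂⟩, ⟨a₃⟩⟩ := exists_euler_sum n k
  have h₂ : ∀ f : T.X₂ ⟶ M, f = 0 := fun f => by
    rw [← cancel_epi a₂.inv, comp_zero]
    refine Sigma.hom_ext _ _ fun i => ?_
    rw [comp_zero]
    obtain ⟨e⟩ := nonempty_hom_neg_one n k M
    exact e.injective (Subsingleton.elim _ _)
  obtain ⟨g, hg⟩ := exists_injective_hom (k := k) hT a₃ M h₂
  exact ⟨g.comp (Linear.homCongr k a₁.symm (Iso.refl M)).toLinearMap,
    hg.comp (Linear.homCongr k a₁.symm (Iso.refl M)).injective⟩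

theorem nonempty_H1_omega (hn : 1 ≤ n) :
    Nonempty (Coh.HH (CohB1.ProjSpace n k) (OmegaP n k) 1 ≃ₗ[k] k) := by
  obtain ⟨c⟩ := OmegaPn27.nonempty_untwisted n k 1 hn
  obtain ⟨b⟩ := OmegaPn27.nonempty_Wt_zero_right n k 1
  obtain ⟨a⟩ := nonempty_wedge_one n k
  exact ⟨Euler.hhEquiv (A := k) (a.symm ≪≫ b) 1 ≪≫ₗ c⟩

/-- The differentials of projective space are simple. -/
theorem exists_smul_id_omega (φ : OmegaP n k ⟶ OmegaP n k) : ∃ c : k, φ = c • 𝟙 (OmegaP n k) := by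
  rcases Nat.eq_zero_or_pos n with rfl | hn
  · have hz : IsZero (OmegaP 0 k) :=
      ModelK.isZero_of_rank_zero' (OmegaPn27.isFinLocFreeOfRank_omegaP 0 k)
    exact ⟨0, hz.eq_of_src _ _⟩
  obtain ⟨a⟩ := nonempty_Wt_one n k 1
  obtain ⟨g, hg⟩ := exists_injective_hom_omega n k (OmegaP n k) (OmegaPn27.subsingleton_iso n k a.symm
    (OmegaPn27.subsingleton_pos_zero n k hn one_pos le_rfl))
  obtain ⟨e⟩ := nonempty_H1_omega n k hn
  rcases subsingleton_or_nontrivial (OmegaP n k ⟶ OmegaP n k) with hs | hs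
  · exact ⟨0, Subsingleton.elim _ _⟩
  refine exists_eq_smul_of_injective g hg e φ fun h => ?_
  obtain ⟨f, f', hne⟩ := hs
  exact hne (((Limits.IsZero.iff_id_eq_zero _).2 h).eq_of_src f f')

end Proj

end GrothLib.NullCorr27
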