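import Groth.Agent.Lib.NullCorr27.Basic

/-!
# Null-correlation bundles
-/

set_option autoImplicit false
set_option maxHeartbeats 800000
set_option linter.style.haveILetI false
set_option backward.isDefEq.respectTransparency false

universe u

open CategoryTheory CategoryTheory.Limits AlgebraicGeometry Opposite TopologicalSpace
open GrothLib.ExtPowX (wedge)
open GrothLib.OmegaPn27 (OmegaP OD Wt)

noncomputable section

namespace GrothLib.NullCorr27

theorem subsingleton_of_hhEquiv {k : Type u} [Field k] {X : Scheme.{u}} [X.Over (Spec (CommRingCat.of k))]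
    {M N : X.Modules} (e : M ≅ N) {q : ℕ} (h : Subsingleton (Coh.HH X N q)) : Subsingleton (Coh.HH X M q) :=
  (Euler.hhEquiv (A := k) e q).toEquiv.subsingleton

variable (n : ℕ) (k : Type u) [Field k] [QuasiSeparated (CohB1.ProjSpace.toSpec n k)]

/-- The source `Ω(1)`. -/
abbrev Om1 : (CohB1.ProjSpace n k).Modules := CohB1.tensorMod (OmegaP n k) (OD n k 1)

variable (u : OD n k (-1) ⟶ Om1 n k) [Mono u]

omit [QuasiSeparated (CohB1.ProjSpace.toSpec n k)] in
theorem shortExact_coker : (ShortComplex.mk u (cokernel.π u) (cokernel.condition u)).ShortExact :=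
  { exact := ShortComplex.exact_of_g_is_cokernel _ (cokernelIsCokernel u) }

theorem subsingleton_H0_coker (hn : 2 ≤ n) :
    Subsingleton (Coh.HH (CohB1.ProjSpace n k) (cokernel u) 0) := by
  have h := shortExact_coker n k u
  refine OmegaPn27.subsingleton_X₃ (A := k) h 0 ?_ ?_
  · obtain ⟨a⟩ := nonempty_Wt_one n k 1
    exact OmegaPn27.subsingleton_iso n k a.symm (OmegaPn27.subsingleton_pos_zero n k (by omega) one_pos le_rfl)
  · exact ProjCohom.subsingleton_HH (fun h => by omega) (fun h => by omega)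

/-- The twist by `O(-1)`. -/
abbrev dn (M : (CohB1.ProjSpace n k).Modules) : (CohB1.ProjSpace n k).Modules := CohB1.tensorMod M (OD n k (-1))

theorem nonempty_dn_Om1 : Nonempty (dn n k (Om1 n k) ≅ OmegaP n k) :=
  nonempty_untwist n k (OmegaP n k) (add_neg_cancel 1)

theorem exists_injective_H1 (hn : 2 ≤ n) :
    ∃ f : Coh.HH (CohB1.ProjSpace n k) (dn n k (cokernel u)) 1 →ₗ[k] k, Function.Injective f := by
  have hS := OX.tensor_map_shortExact (F := OD n k (-1)) (OX.flat_of_isFinLocFree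
    (Euler.isFinLocFree_of_isInvertible (ProjPic26.isInvertible_twistProjSpace n k (-1)))) (shortExact_coker n k u)
  obtain ⟨t⟩ := OmegaPn27.nonempty_twist_add n k (-1) (-1)
  have h2 : Subsingleton (Coh.HH (CohB1.ProjSpace n k)
      (CohB1.tensorMod (OD n k (-1)) (OD n k (-1))) 2) :=
    OmegaPn27.subsingleton_iso n k t (ProjCohom.subsingleton_HH (fun h => by omega) (fun h => by omega))
  obtain ⟨r⟩ := nonempty_dn_Om1 n k
  obtain ⟨e⟩ := nonempty_H1_omega n k (by omega)
  refine exists_injective_of_surjective (Euler.hhEquiv (A := k) r 1 ≪≫ₗ e)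
    (Cohom.hhMap k (((DCoh.tensorBi (X := CohB1.ProjSpace n k)).flip.obj (OD n k (-1))).map (cokernel.π u)) 1)
    fun y => (Cohom.exact₃ (A := k) hS 1 y).1 ?_
  exact @Subsingleton.elim _ h2 _ _

omit [QuasiSeparated (CohB1.ProjSpace.toSpec n k)] in
theorem nonempty_hom_dn (M N : (CohB1.ProjSpace n k).Modules) :
    Nonempty ((M ⟶ N) ≃ₗ[k] (dn n k M ⟶ dn n k N)) := by
  obtain ⟨a⟩ := OmegaPn27.nonempty_twist_add n k (-1) 1
  obtain ⟨b⟩ := OmegaPn27.nonempty_twist_add n k 1 (-1)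
  rw [neg_add_cancel] at a
  rw [add_neg_cancel] at b
  obtain ⟨c⟩ := CMReg.nonempty_twist_zero (n := n) (k := k)
  haveI := CurveMult.isEquivalence_tF (a ≪≫ c) (b ≪≫ c)
  haveI : (Euler.tF (OD n k (-1))).Linear k := SerrePn27.linear_tF _
  let l : (M ⟶ N) ≃ₗ[k] ((Euler.tF (OD n k (-1))).obj M ⟶ (Euler.tF (OD n k (-1))).obj N) :=
    LinearEquiv.ofBijective ((Euler.tF (OD n k (-1))).mapLinearMap k)
      ⟨(Euler.tF (OD n k (-1))).map_injective, (Euler.tF (OD n k (-1))).map_surjective⟩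
  exact ⟨l⟩

/-- Maps out of `Ω(1)` into a null-correlation cokernel are multiples of any nonzero one. -/
theorem exists_smul_hom (hn : 2 ≤ n) {f₀ : Om1 n k ⟶ cokernel u} (h₀ : f₀ ≠ 0) (f : Om1 n k ⟶ cokernel u) :
    ∃ c : k, f = c • f₀ := by
  obtain ⟨ι', hι⟩ := exists_injective_H1 n k u hn
  obtain ⟨w⟩ := nonempty_untwist n k (cokernel u) (neg_add_cancel 1)
  obtain ⟨g, hg⟩ := exists_injective_hom_omega n k (dn n k (cokernel u))
    (OmegaPn27.subsingleton_iso n k w (subsingleton_H0_coker n k u hn))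
  obtain ⟨l⟩ := nonempty_hom_dn n k (Om1 n k) (cokernel u)
  obtain ⟨r⟩ := nonempty_dn_Om1 n k
  exact exists_eq_smul_of_injective
    ((ι'.comp g).comp (l ≪≫ₗ Linear.homCongr k r (Iso.refl (dn n k (cokernel u)))).toLinearMap)
    ((hι.comp hg).comp (l ≪≫ₗ Linear.homCongr k r (Iso.refl (dn n k (cokernel u)))).injective)
    (LinearEquiv.refl k k) f h₀

theorem exists_smul_id_coker (hM : FlatMod.IsFinLocFreeOfRank (n - 1) (cokernel u)) (φ : cokernel u ⟶ cokernel u) :
    ∃ c : k, φ = c • 𝟙 (cokernel u) := by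
  rcases Nat.lt_or_ge n 2 with hn | hn
  · rw [show n - 1 = 0 by omega] at hM
    exact ⟨0, (ModelK.isZero_of_rank_zero' hM).eq_of_src _ _⟩
  rcases eq_or_ne (cokernel.π u) 0 with h | h
  · refine ⟨0, ?_⟩
    rw [← cancel_epi (cokernel.π u), h, zero_comp, zero_comp]
  obtain ⟨c, hc⟩ := exists_smul_hom n k u hn h (cokernel.π u ≫ φ)
  exact ⟨c, by rw [← cancel_epi (cokernel.π u), hc, Linear.comp_smul, Category.comp_id]⟩

theorem exists_smul_of_iso (hn : 2 ≤ n) (a a' : OD n k (-1) ⟶ Om1 n k) [Mono a] [Mono a'] (h' : cokernel.π a' ≠ 0)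
    (φ : cokernel a ≅ cokernel a') : ∃ c : k, c ≠ 0 ∧ a' = c • a := by
  obtain ⟨c, hc⟩ := exists_smul_hom n k a' hn h' (cokernel.π a ≫ φ.hom)
  have hc0 : c ≠ 0 := by
    rintro rfl
    rw [zero_smul] at hc
    have hπ : cokernel.π a = 0 := by
      rw [← cancel_mono φ.hom, hc, zero_comp]
    have hid : 𝟙 (cokernel a) = 0 := by
      rw [← cancel_epi (cokernel.π a), Category.comp_id, hπ, zero_comp]
    refine h' ?_
    have : 𝟙 (cokernel a') = 0 := by rw [← φ.inv_hom_id, ← Category.id_comp φ.hom, hid, zero_comp, comp_zero]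
    rw [← Category.comp_id (cokernel.π a'), this, comp_zero]
  have h0 : a ≫ cokernel.π a' = 0 := by
    have e : a ≫ (c • cokernel.π a') = 0 := by rw [← hc, ← Category.assoc, cokernel.condition, zero_comp]
    rw [Linear.comp_smul] at e
    exact (smul_eq_zero.1 e).resolve_left hc0
  have hf := (shortExact_coker n k a').fIsKernel
  let t : OD n k (-1) ⟶ OD n k (-1) := hf.lift (KernelFork.ofι a h0)
  have ht : t ≫ a' = a := hf.fac (KernelFork.ofι a h0) WalkingParallelPair.zero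
  obtain ⟨e⟩ := SerrePn27.nonempty_hom_twist_equiv (n := n) (k := k) (zero_add (-1 : ℤ))
  obtain ⟨e₀⟩ := ProjCohom.nonempty_HH_zero (n := n) (R := k) 0
  classical
  letI : Unique {P : Fin (n + 1) → ℕ // ∑ i, P i = 0} :=
    { default := ⟨fun _ => 0, by simp⟩
      uniq := fun P => Subtype.ext (funext fun i => Finset.sum_eq_zero_iff.1 P.2 i (Finset.mem_univ i)) }
  let E : (OD n k (-1) ⟶ OD n k (-1)) ≃ₗ[k] k := e ≪≫ₗ e₀ ≪≫ₗ
    ProjCohom.formsEquiv (n := n) (R := k) 0 ≪≫ₗ LinearEquiv.funUnique _ k k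
  have hid : 𝟙 (OD n k (-1)) ≠ 0 := fun hz => by
    haveI : Subsingleton (OD n k (-1) ⟶ OD n k (-1)) :=
      ⟨fun x y => ((IsZero.iff_id_eq_zero _).2 hz).eq_of_src x y⟩
    exact one_ne_zero ((E.symm.toEquiv.subsingleton).elim (1 : k) 0)
  obtain ⟨b, hb⟩ := exists_eq_smul_of_injective E.toLinearMap E.injective (LinearEquiv.refl k k) t hid
  rw [hb, Linear.smul_comp, Category.id_comp] at ht
  have hb0 : b ≠ 0 := by
    rintro rfl
    rw [zero_smul] at ht
    refine hid ?_
    rw [← cancel_mono a, Category.id_comp, zero_comp, ← ht]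
  exact ⟨b⁻¹, inv_ne_zero hb0, by rw [← ht, inv_smul_smul₀ hb0]⟩

omit [QuasiSeparated (CohB1.ProjSpace.toSpec n k)] in
theorem nonempty_iso_of_smul (a a' : OD n k (-1) ⟶ Om1 n k) {c : k} (hc : c ≠ 0) (h : a' = c • a) :
    Nonempty (cokernel a ≅ cokernel a') := by
  let q : Om1 n k ≅ Om1 n k :=
    { hom := c • 𝟙 _, inv := c⁻¹ • 𝟙 _
      hom_inv_id := by rw [Linear.smul_comp, Category.id_comp, smul_smul, mul_inv_cancel₀ hc, one_smul]
      inv_hom_id := by rw [Linear.smul_comp, Category.id_comp, smul_smul, inv_mul_cancel₀ hc, one_smul] }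
  exact ⟨cokernel.mapIso a a' (Iso.refl _) q (by
    rw [h, Iso.refl_hom, Category.id_comp]
    show a ≫ (c • 𝟙 _) = c • a
    rw [Linear.comp_smul, Category.comp_id])⟩

end GrothLib.NullCorr27
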